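import Cfsg.Agent.Lib.Helper9.TCData.SuzC0.Main

set_option autoImplicit false
set_option maxRecDepth 1000000

namespace Cfsg.Agent.Helper9.TCData.SuzC0
open Cfsg.Agent.Helper9.TC2

theorem e2_1 : allRange 3345 2986 (fun u => chkE tab 2 u) = true := by decide +kernel

theorem e2_2 : allRange 6331 5654 (fun u => chkE tab 2 u) = true := by decide +kernel

theorem e2_3 : allRange 11985 377 (fun u => chkE tab 2 u) = true := by decide +kernel

theorem e3_0 : allRange 0 3235 (fun u => chkE tab 3 u) = true := by decide +kernel

theorem e3_1 : allRange 3235 2520 (fun u => chkE tab 3 u) = true := by decide +kernel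

theorem e3_2 : allRange 5755 4291 (fun u => chkE tab 3 u) = true := by decide +kernel

theorem e3_3 : allRange 10046 2316 (fun u => chkE tab 3 u) = true := by decide +kernel

theorem e4_0 : allRange 0 3107 (fun u => chkE tab 4 u) = true := by decide +kernel


end Cfsg.Agent.Helper9.TCData.SuzC0
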