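import Cfsg.Agent.Lib.Helper9.TCData.SuzC0.Main

set_option autoImplicit false
set_option maxRecDepth 1000000

namespace Cfsg.Agent.Helper9.TCData.SuzC0
open Cfsg.Agent.Helper9.TC2

theorem m2_17 : allRange 1513 89 (fun u => chkFix tab mwordsA u) = true := by decide +kernel

theorem m2_18 : allRange 1602 89 (fun u => chkFix tab mwordsA u) = true := by decide +kernel

theorem m2_19 : allRange 1691 89 (fun u => chkFix tab mwordsA u) = true := by decide +kernel

theorem m2_20 : allRange 1780 2 (fun u => chkFix tab mwordsA u) = true := by decide +kernel


end Cfsg.Agent.Helper9.TCData.SuzC0
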