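import Cfsg.Agent.Lib.Helper9.TCData.SuzC0.Main

set_option autoImplicit false
set_option maxRecDepth 1000000

namespace Cfsg.Agent.Helper9.TCData.SuzC0
open Cfsg.Agent.Helper9.TC2

theorem sl_16 : allRange 256 16 (fun u => chkSlp tab slp u) = true := by decide +kernel

theorem sl_17 : allRange 272 16 (fun u => chkSlp tab slp u) = true := by decide +kernel

theorem sl_18 : allRange 288 16 (fun u => chkSlp tab slp u) = true := by decide +kernel

theorem sl_19 : allRange 304 16 (fun u => chkSlp tab slp u) = true := by decide +kernel

theorem sl_20 : allRange 320 16 (fun u => chkSlp tab slp u) = true := by decide +kernel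

theorem sl_21 : allRange 336 16 (fun u => chkSlp tab slp u) = true := by decide +kernel

theorem sl_22 : allRange 352 16 (fun u => chkSlp tab slp u) = true := by decide +kernel

theorem sl_23 : allRange 368 16 (fun u => chkSlp tab slp u) = true := by decide +kernel


end Cfsg.Agent.Helper9.TCData.SuzC0
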