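import Cfsg.Agent.Lib.Helper9.TCData.SuzC0.Main

set_option autoImplicit false
set_option maxRecDepth 1000000

namespace Cfsg.Agent.Helper9.TCData.SuzC0
open Cfsg.Agent.Helper9.TC2

theorem sl_32 : allRange 512 16 (fun u => chkSlp tab slp u) = true := by decide +kernel

theorem sl_33 : allRange 528 16 (fun u => chkSlp tab slp u) = true := by decide +kernel

theorem sl_34 : allRange 544 16 (fun u => chkSlp tab slp u) = true := by decide +kernel

theorem sl_35 : allRange 560 16 (fun u => chkSlp tab slp u) = true := by decide +kernel

theorem sl_36 : allRange 576 16 (fun u => chkSlp tab slp u) = true := by decide +kernel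

theorem sl_37 : allRange 592 16 (fun u => chkSlp tab slp u) = true := by decide +kernel

theorem sl_38 : allRange 608 16 (fun u => chkSlp tab slp u) = true := by decide +kernel

theorem sl_39 : allRange 624 16 (fun u => chkSlp tab slp u) = true := by decide +kernel


end Cfsg.Agent.Helper9.TCData.SuzC0
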