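import Cfsg.Agent.Lib.Helper9.TCData.SuzC0.Main

set_option autoImplicit false
set_option maxRecDepth 1000000

namespace Cfsg.Agent.Helper9.TCData.SuzC0
open Cfsg.Agent.Helper9.TC2

theorem sl_48 : allRange 768 16 (fun u => chkSlp tab slp u) = true := by decide +kernel

theorem sl_49 : allRange 784 16 (fun u => chkSlp tab slp u) = true := by decide +kernel

theorem sl_50 : allRange 800 16 (fun u => chkSlp tab slp u) = true := by decide +kernel

theorem sl_51 : allRange 816 16 (fun u => chkSlp tab slp u) = true := by decide +kernel

theorem sl_52 : allRange 832 16 (fun u => chkSlp tab slp u) = true := by decide +kernel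

theorem sl_53 : allRange 848 16 (fun u => chkSlp tab slp u) = true := by decide +kernel

theorem sl_54 : allRange 864 16 (fun u => chkSlp tab slp u) = true := by decide +kernel

theorem sl_55 : allRange 880 16 (fun u => chkSlp tab slp u) = true := by decide +kernel


end Cfsg.Agent.Helper9.TCData.SuzC0
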