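import Cfsg.Agent.Lib.Helper9.TCData.SuzC0.Main

set_option autoImplicit false
set_option maxRecDepth 1000000

namespace Cfsg.Agent.Helper9.TCData.SuzC0
open Cfsg.Agent.Helper9.TC2

theorem e4_1 : allRange 3107 2379 (fun u => chkE tab 4 u) = true := by decide +kernel

theorem e4_2 : allRange 5486 2925 (fun u => chkE tab 4 u) = true := by decide +kernel

theorem e4_3 : allRange 8411 3951 (fun u => chkE tab 4 u) = true := by decide +kernel

theorem e5_0 : allRange 0 3766 (fun u => chkE tab 5 u) = true := by decide +kernel

theorem e5_1 : allRange 3766 3301 (fun u => chkE tab 5 u) = true := by decide +kernel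

theorem e5_2 : allRange 7067 5295 (fun u => chkE tab 5 u) = true := by decide +kernel

theorem e6_0 : allRange 0 3836 (fun u => chkE tab 6 u) = true := by decide +kernel

theorem e6_1 : allRange 3836 3302 (fun u => chkE tab 6 u) = true := by decide +kernel


end Cfsg.Agent.Helper9.TCData.SuzC0
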