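import Cfsg.Agent.Lib.Helper9.TCData.SuzC0.Main

set_option autoImplicit false
set_option maxRecDepth 1000000

namespace Cfsg.Agent.Helper9.TCData.SuzC0
open Cfsg.Agent.Helper9.TC2

theorem sl_56 : allRange 896 16 (fun u => chkSlp tab slp u) = true := by decide +kernel

theorem sl_57 : allRange 912 16 (fun u => chkSlp tab slp u) = true := by decide +kernel

theorem sl_58 : allRange 928 16 (fun u => chkSlp tab slp u) = true := by decide +kernel

theorem sl_59 : allRange 944 16 (fun u => chkSlp tab slp u) = true := by decide +kernel

theorem sl_60 : allRange 960 16 (fun u => chkSlp tab slp u) = true := by decide +kernel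

theorem sl_61 : allRange 976 16 (fun u => chkSlp tab slp u) = true := by decide +kernel

theorem sl_62 : allRange 992 16 (fun u => chkSlp tab slp u) = true := by decide +kernel

theorem sl_63 : allRange 1008 16 (fun u => chkSlp tab slp u) = true := by decide +kernel


end Cfsg.Agent.Helper9.TCData.SuzC0
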