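import Cfsg.Agent.Lib.Helper9.TCData.SuzC0.Main

set_option autoImplicit false
set_option maxRecDepth 1000000

namespace Cfsg.Agent.Helper9.TCData.SuzC0
open Cfsg.Agent.Helper9.TC2

theorem sl_64 : allRange 1024 16 (fun u => chkSlp tab slp u) = true := by decide +kernel

theorem sl_65 : allRange 1040 16 (fun u => chkSlp tab slp u) = true := by decide +kernel

theorem sl_66 : allRange 1056 16 (fun u => chkSlp tab slp u) = true := by decide +kernel

theorem sl_67 : allRange 1072 16 (fun u => chkSlp tab slp u) = true := by decide +kernel

theorem sl_68 : allRange 1088 16 (fun u => chkSlp tab slp u) = true := by decide +kernel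

theorem sl_69 : allRange 1104 16 (fun u => chkSlp tab slp u) = true := by decide +kernel

theorem sl_70 : allRange 1120 16 (fun u => chkSlp tab slp u) = true := by decide +kernel

theorem sl_71 : allRange 1136 16 (fun u => chkSlp tab slp u) = true := by decide +kernel


end Cfsg.Agent.Helper9.TCData.SuzC0
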