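import Cfsg.Agent.Lib.Helper9.TCData.SuzC0.Main

set_option autoImplicit false
set_option maxRecDepth 1000000

namespace Cfsg.Agent.Helper9.TCData.SuzC0
open Cfsg.Agent.Helper9.TC2

theorem sl_80 : allRange 1280 16 (fun u => chkSlp tab slp u) = true := by decide +kernel

theorem sl_81 : allRange 1296 16 (fun u => chkSlp tab slp u) = true := by decide +kernel

theorem sl_82 : allRange 1312 16 (fun u => chkSlp tab slp u) = true := by decide +kernel

theorem sl_83 : allRange 1328 16 (fun u => chkSlp tab slp u) = true := by decide +kernel

theorem sl_84 : allRange 1344 16 (fun u => chkSlp tab slp u) = true := by decide +kernel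

theorem sl_85 : allRange 1360 16 (fun u => chkSlp tab slp u) = true := by decide +kernel

theorem sl_86 : allRange 1376 16 (fun u => chkSlp tab slp u) = true := by decide +kernel

theorem sl_87 : allRange 1392 16 (fun u => chkSlp tab slp u) = true := by decide +kernel


end Cfsg.Agent.Helper9.TCData.SuzC0
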