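import Cfsg.Agent.Lib.Helper9.TCData.SuzC0.Main

set_option autoImplicit false
set_option maxRecDepth 1000000

namespace Cfsg.Agent.Helper9.TCData.SuzC0
open Cfsg.Agent.Helper9.TC2

theorem sl_104 : allRange 1664 16 (fun u => chkSlp tab slp u) = true := by decide +kernel

theorem sl_105 : allRange 1680 16 (fun u => chkSlp tab slp u) = true := by decide +kernel

theorem sl_106 : allRange 1696 16 (fun u => chkSlp tab slp u) = true := by decide +kernel

theorem sl_107 : allRange 1712 16 (fun u => chkSlp tab slp u) = true := by decide +kernel

theorem sl_108 : allRange 1728 16 (fun u => chkSlp tab slp u) = true := by decide +kernel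

theorem sl_109 : allRange 1744 16 (fun u => chkSlp tab slp u) = true := by decide +kernel

theorem sl_110 : allRange 1760 16 (fun u => chkSlp tab slp u) = true := by decide +kernel

theorem sl_111 : allRange 1776 6 (fun u => chkSlp tab slp u) = true := by decide +kernel


end Cfsg.Agent.Helper9.TCData.SuzC0
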