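import Cfsg.Agent.Lib.Helper9.TCData.SuzC0.S0
import Cfsg.Agent.Lib.Helper9.TCData.SuzC0.S1
import Cfsg.Agent.Lib.Helper9.TCData.SuzC0.S2
import Cfsg.Agent.Lib.Helper9.TCData.SuzC0.S3
import Cfsg.Agent.Lib.Helper9.TCData.SuzC0.S4
import Cfsg.Agent.Lib.Helper9.TCData.SuzC0.S5
import Cfsg.Agent.Lib.Helper9.TCData.SuzC0.S6
import Cfsg.Agent.Lib.Helper9.TCData.SuzC0.S7
import Cfsg.Agent.Lib.Helper9.TCData.SuzC0.S8
import Cfsg.Agent.Lib.Helper9.TCData.SuzC0.S9
import Cfsg.Agent.Lib.Helper9.TCData.SuzC0.S10
import Cfsg.Agent.Lib.Helper9.TCData.SuzC0.S11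
import Cfsg.Agent.Lib.Helper9.TCData.SuzC0.S12
import Cfsg.Agent.Lib.Helper9.TCData.SuzC0.S13
import Cfsg.Agent.Lib.Helper9.TCData.SuzC0.S14
import Cfsg.Agent.Lib.Helper9.TCData.SuzC0.S15
import Cfsg.Agent.Lib.Helper9.TCData.SuzC0.S16
import Cfsg.Agent.Lib.Helper9.TCData.SuzC0.S17
import Cfsg.Agent.Lib.Helper9.TCData.SuzC0.S18
import Cfsg.Agent.Lib.Helper9.TCData.SuzC0.S19
import Cfsg.Agent.Lib.Helper9.TCData.SuzC0.S20
import Cfsg.Agent.Lib.Helper9.TCData.SuzC0.S21
import Cfsg.Agent.Lib.Helper9.TCData.SuzC0.S22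
import Cfsg.Agent.Lib.Helper9.TCData.SuzC0.S23
import Cfsg.Agent.Lib.Helper9.TCData.SuzC0.S24
import Cfsg.Agent.Lib.Helper9.TCData.SuzC0.S25
import Cfsg.Agent.Lib.Helper9.TCData.SuzC0.S26
import Cfsg.Agent.Lib.Helper9.TCData.SuzC0.S27
import Cfsg.Agent.Lib.Helper9.TCData.SuzC0.S28
import Cfsg.Agent.Lib.Helper9.TCData.SuzC0.S29
import Cfsg.Agent.Lib.Helper9.TCData.SuzC0.S30

set_option autoImplicit false
set_option maxRecDepth 1000000

namespace Cfsg.Agent.Helper9.TCData.SuzC0
open Cfsg.Agent.Helper9.TC2


theorem hE0 : ∀ u < 12362, chkE tab 0 u = true := by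
  have h0 : ∀ u < 0, (fun u => chkE tab 0 u) u = true := range_zero
  have h1 : ∀ u < 3122, (fun u => chkE tab 0 u) u = true := ext_range (a := 0) (len := 3122) h0 e0_0
  have h2 : ∀ u < 5766, (fun u => chkE tab 0 u) u = true := ext_range (a := 3122) (len := 2644) h1 e0_1
  have h3 : ∀ u < 8947, (fun u => chkE tab 0 u) u = true := ext_range (a := 5766) (len := 3181) h2 e0_2
  have h4 : ∀ u < 12362, (fun u => chkE tab 0 u) u = true := ext_range (a := 8947) (len := 3415) h3 e0_3
  exact h4

theorem hE1 : ∀ u < 12362, chkE tab 1 u = true := by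
  have h0 : ∀ u < 0, (fun u => chkE tab 1 u) u = true := range_zero
  have h1 : ∀ u < 3983, (fun u => chkE tab 1 u) u = true := ext_range (a := 0) (len := 3983) h0 e1_0
  have h2 : ∀ u < 7156, (fun u => chkE tab 1 u) u = true := ext_range (a := 3983) (len := 3173) h1 e1_1
  have h3 : ∀ u < 12362, (fun u => chkE tab 1 u) u = true := ext_range (a := 7156) (len := 5206) h2 e1_2
  exact h3

theorem hE2 : ∀ u < 12362, chkE tab 2 u = true := by
  have h0 : ∀ u < 0, (fun u => chkE tab 2 u) u = true := range_zero
  have h1 : ∀ u < 3345, (fun u => chkE tab 2 u) u = true := ext_range (a := 0) (len := 3345) h0 e2_0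
  have h2 : ∀ u < 6331, (fun u => chkE tab 2 u) u = true := ext_range (a := 3345) (len := 2986) h1 e2_1
  have h3 : ∀ u < 11985, (fun u => chkE tab 2 u) u = true := ext_range (a := 6331) (len := 5654) h2 e2_2
  have h4 : ∀ u < 12362, (fun u => chkE tab 2 u) u = true := ext_range (a := 11985) (len := 377) h3 e2_3
  exact h4

theorem hE3 : ∀ u < 12362, chkE tab 3 u = true := by
  have h0 : ∀ u < 0, (fun u => chkE tab 3 u) u = true := range_zero
  have h1 : ∀ u < 3235, (fun u => chkE tab 3 u) u = true := ext_range (a := 0) (len := 3235) h0 e3_0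
  have h2 : ∀ u < 5755, (fun u => chkE tab 3 u) u = true := ext_range (a := 3235) (len := 2520) h1 e3_1
  have h3 : ∀ u < 10046, (fun u => chkE tab 3 u) u = true := ext_range (a := 5755) (len := 4291) h2 e3_2
  have h4 : ∀ u < 12362, (fun u => chkE tab 3 u) u = true := ext_range (a := 10046) (len := 2316) h3 e3_3
  exact h4

theorem hE4 : ∀ u < 12362, chkE tab 4 u = true := by
  have h0 : ∀ u < 0, (fun u => chkE tab 4 u) u = true := range_zero
  have h1 : ∀ u < 3107, (fun u => chkE tab 4 u) u = true := ext_range (a := 0) (len := 3107) h0 e4_0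
  have h2 : ∀ u < 5486, (fun u => chkE tab 4 u) u = true := ext_range (a := 3107) (len := 2379) h1 e4_1
  have h3 : ∀ u < 8411, (fun u => chkE tab 4 u) u = true := ext_range (a := 5486) (len := 2925) h2 e4_2
  have h4 : ∀ u < 12362, (fun u => chkE tab 4 u) u = true := ext_range (a := 8411) (len := 3951) h3 e4_3
  exact h4

theorem hE5 : ∀ u < 12362, chkE tab 5 u = true := by
  have h0 : ∀ u < 0, (fun u => chkE tab 5 u) u = true := range_zero
  have h1 : ∀ u < 3766, (fun u => chkE tab 5 u) u = true := ext_range (a := 0) (len := 3766) h0 e5_0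
  have h2 : ∀ u < 7067, (fun u => chkE tab 5 u) u = true := ext_range (a := 3766) (len := 3301) h1 e5_1
  have h3 : ∀ u < 12362, (fun u => chkE tab 5 u) u = true := ext_range (a := 7067) (len := 5295) h2 e5_2
  exact h3

theorem hE6 : ∀ u < 12362, chkE tab 6 u = true := by
  have h0 : ∀ u < 0, (fun u => chkE tab 6 u) u = true := range_zero
  have h1 : ∀ u < 3836, (fun u => chkE tab 6 u) u = true := ext_range (a := 0) (len := 3836) h0 e6_0
  have h2 : ∀ u < 7138, (fun u => chkE tab 6 u) u = true := ext_range (a := 3836) (len := 3302) h1 e6_1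
  have h3 : ∀ u < 12362, (fun u => chkE tab 6 u) u = true := ext_range (a := 7138) (len := 5224) h2 e6_2
  exact h3

theorem hL : ∀ u < 12362, chkL tab u = true := by
  have h0 : ∀ u < 0, (fun u => chkL tab u) u = true := range_zero
  have h1 : ∀ u < 2184, (fun u => chkL tab u) u = true := ext_range (a := 0) (len := 2184) h0 l_0
  have h2 : ∀ u < 4579, (fun u => chkL tab u) u = true := ext_range (a := 2184) (len := 2395) h1 l_1
  have h3 : ∀ u < 6354, (fun u => chkL tab u) u = true := ext_range (a := 4579) (len := 1775) h2 l_2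
  have h4 : ∀ u < 8050, (fun u => chkL tab u) u = true := ext_range (a := 6354) (len := 1696) h3 l_3
  have h5 : ∀ u < 9642, (fun u => chkL tab u) u = true := ext_range (a := 8050) (len := 1592) h4 l_4
  have h6 : ∀ u < 11233, (fun u => chkL tab u) u = true := ext_range (a := 9642) (len := 1591) h5 l_5
  have h7 : ∀ u < 12362, (fun u => chkL tab u) u = true := ext_range (a := 11233) (len := 1129) h6 l_6
  exact h7

theorem hF : ∀ u < 1782, chkFin tab u = true := by
  have h0 : ∀ u < 0, (fun u => chkFin tab u) u = true := range_zero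
  have h1 : ∀ u < 348, (fun u => chkFin tab u) u = true := ext_range (a := 0) (len := 348) h0 f_0
  have h2 : ∀ u < 696, (fun u => chkFin tab u) u = true := ext_range (a := 348) (len := 348) h1 f_1
  have h3 : ∀ u < 1044, (fun u => chkFin tab u) u = true := ext_range (a := 696) (len := 348) h2 f_2
  have h4 : ∀ u < 1392, (fun u => chkFin tab u) u = true := ext_range (a := 1044) (len := 348) h3 f_3
  have h5 : ∀ u < 1740, (fun u => chkFin tab u) u = true := ext_range (a := 1392) (len := 348) h4 f_4
  have h6 : ∀ u < 1782, (fun u => chkFin tab u) u = true := ext_range (a := 1740) (len := 42) h5 f_5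
  exact h6

theorem hC : ∀ u < 12362, chkCls tab u = true := by
  have h0 : ∀ u < 0, (fun u => chkCls tab u) u = true := range_zero
  have h1 : ∀ u < 2667, (fun u => chkCls tab u) u = true := ext_range (a := 0) (len := 2667) h0 c_0
  have h2 : ∀ u < 5334, (fun u => chkCls tab u) u = true := ext_range (a := 2667) (len := 2667) h1 c_1
  have h3 : ∀ u < 8001, (fun u => chkCls tab u) u = true := ext_range (a := 5334) (len := 2667) h2 c_2
  have h4 : ∀ u < 10668, (fun u => chkCls tab u) u = true := ext_range (a := 8001) (len := 2667) h3 c_3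
  have h5 : ∀ u < 12362, (fun u => chkCls tab u) u = true := ext_range (a := 10668) (len := 1694) h4 c_4
  exact h5

theorem hM1 : ∀ u < 1782, chkM1 tab u = true := by
  have h0 : ∀ u < 0, (fun u => chkM1 tab u) u = true := range_zero
  have h1 : ∀ u < 899, (fun u => chkM1 tab u) u = true := ext_range (a := 0) (len := 899) h0 m1_0
  have h2 : ∀ u < 1782, (fun u => chkM1 tab u) u = true := ext_range (a := 899) (len := 883) h1 m1_1
  exact h2

theorem hMA : ∀ u < 1782, chkAux tab aux u = true := by
  have h0 : ∀ u < 0, (fun u => chkAux tab aux u) u = true := range_zero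
  have h1 : ∀ u < 400, (fun u => chkAux tab aux u) u = true := ext_range (a := 0) (len := 400) h0 ma_0
  have h2 : ∀ u < 800, (fun u => chkAux tab aux u) u = true := ext_range (a := 400) (len := 400) h1 ma_1
  have h3 : ∀ u < 1200, (fun u => chkAux tab aux u) u = true := ext_range (a := 800) (len := 400) h2 ma_2
  have h4 : ∀ u < 1600, (fun u => chkAux tab aux u) u = true := ext_range (a := 1200) (len := 400) h3 ma_3
  have h5 : ∀ u < 1782, (fun u => chkAux tab aux u) u = true := ext_range (a := 1600) (len := 182) h4 ma_4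
  exact h5

theorem hM2A : ∀ u < 1782, chkFix tab mwordsA u = true := by
  have h0 : ∀ u < 0, (fun u => chkFix tab mwordsA u) u = true := range_zero
  have h1 : ∀ u < 89, (fun u => chkFix tab mwordsA u) u = true := ext_range (a := 0) (len := 89) h0 m2_0
  have h2 : ∀ u < 178, (fun u => chkFix tab mwordsA u) u = true := ext_range (a := 89) (len := 89) h1 m2_1
  have h3 : ∀ u < 267, (fun u => chkFix tab mwordsA u) u = true := ext_range (a := 178) (len := 89) h2 m2_2
  have h4 : ∀ u < 356, (fun u => chkFix tab mwordsA u) u = true := ext_range (a := 267) (len := 89) h3 m2_3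
  have h5 : ∀ u < 445, (fun u => chkFix tab mwordsA u) u = true := ext_range (a := 356) (len := 89) h4 m2_4
  have h6 : ∀ u < 534, (fun u => chkFix tab mwordsA u) u = true := ext_range (a := 445) (len := 89) h5 m2_5
  have h7 : ∀ u < 623, (fun u => chkFix tab mwordsA u) u = true := ext_range (a := 534) (len := 89) h6 m2_6
  have h8 : ∀ u < 712, (fun u => chkFix tab mwordsA u) u = true := ext_range (a := 623) (len := 89) h7 m2_7
  have h9 : ∀ u < 801, (fun u => chkFix tab mwordsA u) u = true := ext_range (a := 712) (len := 89) h8 m2_8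
  have h10 : ∀ u < 890, (fun u => chkFix tab mwordsA u) u = true := ext_range (a := 801) (len := 89) h9 m2_9
  have h11 : ∀ u < 979, (fun u => chkFix tab mwordsA u) u = true := ext_range (a := 890) (len := 89) h10 m2_10
  have h12 : ∀ u < 1068, (fun u => chkFix tab mwordsA u) u = true := ext_range (a := 979) (len := 89) h11 m2_11
  have h13 : ∀ u < 1157, (fun u => chkFix tab mwordsA u) u = true := ext_range (a := 1068) (len := 89) h12 m2_12
  have h14 : ∀ u < 1246, (fun u => chkFix tab mwordsA u) u = true := ext_range (a := 1157) (len := 89) h13 m2_13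
  have h15 : ∀ u < 1335, (fun u => chkFix tab mwordsA u) u = true := ext_range (a := 1246) (len := 89) h14 m2_14
  have h16 : ∀ u < 1424, (fun u => chkFix tab mwordsA u) u = true := ext_range (a := 1335) (len := 89) h15 m2_15
  have h17 : ∀ u < 1513, (fun u => chkFix tab mwordsA u) u = true := ext_range (a := 1424) (len := 89) h16 m2_16
  have h18 : ∀ u < 1602, (fun u => chkFix tab mwordsA u) u = true := ext_range (a := 1513) (len := 89) h17 m2_17
  have h19 : ∀ u < 1691, (fun u => chkFix tab mwordsA u) u = true := ext_range (a := 1602) (len := 89) h18 m2_18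
  have h20 : ∀ u < 1780, (fun u => chkFix tab mwordsA u) u = true := ext_range (a := 1691) (len := 89) h19 m2_19
  have h21 : ∀ u < 1782, (fun u => chkFix tab mwordsA u) u = true := ext_range (a := 1780) (len := 2) h20 m2_20
  exact h21

theorem hO1 : ∀ u < 1782, chkO1 tab orb u = true := by
  have h0 : ∀ u < 0, (fun u => chkO1 tab orb u) u = true := range_zero
  have h1 : ∀ u < 513, (fun u => chkO1 tab orb u) u = true := ext_range (a := 0) (len := 513) h0 o1_0
  have h2 : ∀ u < 1026, (fun u => chkO1 tab orb u) u = true := ext_range (a := 513) (len := 513) h1 o1_1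
  have h3 : ∀ u < 1539, (fun u => chkO1 tab orb u) u = true := ext_range (a := 1026) (len := 513) h2 o1_2
  have h4 : ∀ u < 1782, (fun u => chkO1 tab orb u) u = true := ext_range (a := 1539) (len := 243) h3 o1_3
  exact h4

theorem hO2 : ∀ u < 1782, chkO2 tab orb u = true := by
  have h0 : ∀ u < 0, (fun u => chkO2 tab orb u) u = true := range_zero
  have h1 : ∀ u < 1334, (fun u => chkO2 tab orb u) u = true := ext_range (a := 0) (len := 1334) h0 o2_0
  have h2 : ∀ u < 1782, (fun u => chkO2 tab orb u) u = true := ext_range (a := 1334) (len := 448) h1 o2_1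
  exact h2

theorem hOL : ∀ u < 1782, Nat.blt (orb.lab u) 3 = true := by
  have h0 : ∀ u < 0, (fun u => Nat.blt (orb.lab u) 3) u = true := range_zero
  have h1 : ∀ u < 1782, (fun u => Nat.blt (orb.lab u) 3) u = true := ext_range (a := 0) (len := 1782) h0 ol_0
  exact h1

theorem hSlp : ∀ u < 1782, chkSlp tab slp u = true := by
  have h0 : ∀ u < 0, (fun u => chkSlp tab slp u) u = true := range_zero
  have h1 : ∀ u < 16, (fun u => chkSlp tab slp u) u = true := ext_range (a := 0) (len := 16) h0 sl_0
  have h2 : ∀ u < 32, (fun u => chkSlp tab slp u) u = true := ext_range (a := 16) (len := 16) h1 sl_1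
  have h3 : ∀ u < 48, (fun u => chkSlp tab slp u) u = true := ext_range (a := 32) (len := 16) h2 sl_2
  have h4 : ∀ u < 64, (fun u => chkSlp tab slp u) u = true := ext_range (a := 48) (len := 16) h3 sl_3
  have h5 : ∀ u < 80, (fun u => chkSlp tab slp u) u = true := ext_range (a := 64) (len := 16) h4 sl_4
  have h6 : ∀ u < 96, (fun u => chkSlp tab slp u) u = true := ext_range (a := 80) (len := 16) h5 sl_5
  have h7 : ∀ u < 112, (fun u => chkSlp tab slp u) u = true := ext_range (a := 96) (len := 16) h6 sl_6
  have h8 : ∀ u < 128, (fun u => chkSlp tab slp u) u = true := ext_range (a := 112) (len := 16) h7 sl_7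
  have h9 : ∀ u < 144, (fun u => chkSlp tab slp u) u = true := ext_range (a := 128) (len := 16) h8 sl_8
  have h10 : ∀ u < 160, (fun u => chkSlp tab slp u) u = true := ext_range (a := 144) (len := 16) h9 sl_9
  have h11 : ∀ u < 176, (fun u => chkSlp tab slp u) u = true := ext_range (a := 160) (len := 16) h10 sl_10
  have h12 : ∀ u < 192, (fun u => chkSlp tab slp u) u = true := ext_range (a := 176) (len := 16) h11 sl_11
  have h13 : ∀ u < 208, (fun u => chkSlp tab slp u) u = true := ext_range (a := 192) (len := 16) h12 sl_12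
  have h14 : ∀ u < 224, (fun u => chkSlp tab slp u) u = true := ext_range (a := 208) (len := 16) h13 sl_13
  have h15 : ∀ u < 240, (fun u => chkSlp tab slp u) u = true := ext_range (a := 224) (len := 16) h14 sl_14
  have h16 : ∀ u < 256, (fun u => chkSlp tab slp u) u = true := ext_range (a := 240) (len := 16) h15 sl_15
  have h17 : ∀ u < 272, (fun u => chkSlp tab slp u) u = true := ext_range (a := 256) (len := 16) h16 sl_16
  have h18 : ∀ u < 288, (fun u => chkSlp tab slp u) u = true := ext_range (a := 272) (len := 16) h17 sl_17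
  have h19 : ∀ u < 304, (fun u => chkSlp tab slp u) u = true := ext_range (a := 288) (len := 16) h18 sl_18
  have h20 : ∀ u < 320, (fun u => chkSlp tab slp u) u = true := ext_range (a := 304) (len := 16) h19 sl_19
  have h21 : ∀ u < 336, (fun u => chkSlp tab slp u) u = true := ext_range (a := 320) (len := 16) h20 sl_20
  have h22 : ∀ u < 352, (fun u => chkSlp tab slp u) u = true := ext_range (a := 336) (len := 16) h21 sl_21
  have h23 : ∀ u < 368, (fun u => chkSlp tab slp u) u = true := ext_range (a := 352) (len := 16) h22 sl_22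
  have h24 : ∀ u < 384, (fun u => chkSlp tab slp u) u = true := ext_range (a := 368) (len := 16) h23 sl_23
  have h25 : ∀ u < 400, (fun u => chkSlp tab slp u) u = true := ext_range (a := 384) (len := 16) h24 sl_24
  have h26 : ∀ u < 416, (fun u => chkSlp tab slp u) u = true := ext_range (a := 400) (len := 16) h25 sl_25
  have h27 : ∀ u < 432, (fun u => chkSlp tab slp u) u = true := ext_range (a := 416) (len := 16) h26 sl_26
  have h28 : ∀ u < 448, (fun u => chkSlp tab slp u) u = true := ext_range (a := 432) (len := 16) h27 sl_27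
  have h29 : ∀ u < 464, (fun u => chkSlp tab slp u) u = true := ext_range (a := 448) (len := 16) h28 sl_28
  have h30 : ∀ u < 480, (fun u => chkSlp tab slp u) u = true := ext_range (a := 464) (len := 16) h29 sl_29
  have h31 : ∀ u < 496, (fun u => chkSlp tab slp u) u = true := ext_range (a := 480) (len := 16) h30 sl_30
  have h32 : ∀ u < 512, (fun u => chkSlp tab slp u) u = true := ext_range (a := 496) (len := 16) h31 sl_31
  have h33 : ∀ u < 528, (fun u => chkSlp tab slp u) u = true := ext_range (a := 512) (len := 16) h32 sl_32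
  have h34 : ∀ u < 544, (fun u => chkSlp tab slp u) u = true := ext_range (a := 528) (len := 16) h33 sl_33
  have h35 : ∀ u < 560, (fun u => chkSlp tab slp u) u = true := ext_range (a := 544) (len := 16) h34 sl_34
  have h36 : ∀ u < 576, (fun u => chkSlp tab slp u) u = true := ext_range (a := 560) (len := 16) h35 sl_35
  have h37 : ∀ u < 592, (fun u => chkSlp tab slp u) u = true := ext_range (a := 576) (len := 16) h36 sl_36
  have h38 : ∀ u < 608, (fun u => chkSlp tab slp u) u = true := ext_range (a := 592) (len := 16) h37 sl_37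
  have h39 : ∀ u < 624, (fun u => chkSlp tab slp u) u = true := ext_range (a := 608) (len := 16) h38 sl_38
  have h40 : ∀ u < 640, (fun u => chkSlp tab slp u) u = true := ext_range (a := 624) (len := 16) h39 sl_39
  have h41 : ∀ u < 656, (fun u => chkSlp tab slp u) u = true := ext_range (a := 640) (len := 16) h40 sl_40
  have h42 : ∀ u < 672, (fun u => chkSlp tab slp u) u = true := ext_range (a := 656) (len := 16) h41 sl_41
  have h43 : ∀ u < 688, (fun u => chkSlp tab slp u) u = true := ext_range (a := 672) (len := 16) h42 sl_42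
  have h44 : ∀ u < 704, (fun u => chkSlp tab slp u) u = true := ext_range (a := 688) (len := 16) h43 sl_43
  have h45 : ∀ u < 720, (fun u => chkSlp tab slp u) u = true := ext_range (a := 704) (len := 16) h44 sl_44
  have h46 : ∀ u < 736, (fun u => chkSlp tab slp u) u = true := ext_range (a := 720) (len := 16) h45 sl_45
  have h47 : ∀ u < 752, (fun u => chkSlp tab slp u) u = true := ext_range (a := 736) (len := 16) h46 sl_46
  have h48 : ∀ u < 768, (fun u => chkSlp tab slp u) u = true := ext_range (a := 752) (len := 16) h47 sl_47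
  have h49 : ∀ u < 784, (fun u => chkSlp tab slp u) u = true := ext_range (a := 768) (len := 16) h48 sl_48
  have h50 : ∀ u < 800, (fun u => chkSlp tab slp u) u = true := ext_range (a := 784) (len := 16) h49 sl_49
  have h51 : ∀ u < 816, (fun u => chkSlp tab slp u) u = true := ext_range (a := 800) (len := 16) h50 sl_50
  have h52 : ∀ u < 832, (fun u => chkSlp tab slp u) u = true := ext_range (a := 816) (len := 16) h51 sl_51
  have h53 : ∀ u < 848, (fun u => chkSlp tab slp u) u = true := ext_range (a := 832) (len := 16) h52 sl_52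
  have h54 : ∀ u < 864, (fun u => chkSlp tab slp u) u = true := ext_range (a := 848) (len := 16) h53 sl_53
  have h55 : ∀ u < 880, (fun u => chkSlp tab slp u) u = true := ext_range (a := 864) (len := 16) h54 sl_54
  have h56 : ∀ u < 896, (fun u => chkSlp tab slp u) u = true := ext_range (a := 880) (len := 16) h55 sl_55
  have h57 : ∀ u < 912, (fun u => chkSlp tab slp u) u = true := ext_range (a := 896) (len := 16) h56 sl_56
  have h58 : ∀ u < 928, (fun u => chkSlp tab slp u) u = true := ext_range (a := 912) (len := 16) h57 sl_57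
  have h59 : ∀ u < 944, (fun u => chkSlp tab slp u) u = true := ext_range (a := 928) (len := 16) h58 sl_58
  have h60 : ∀ u < 960, (fun u => chkSlp tab slp u) u = true := ext_range (a := 944) (len := 16) h59 sl_59
  have h61 : ∀ u < 976, (fun u => chkSlp tab slp u) u = true := ext_range (a := 960) (len := 16) h60 sl_60
  have h62 : ∀ u < 992, (fun u => chkSlp tab slp u) u = true := ext_range (a := 976) (len := 16) h61 sl_61
  have h63 : ∀ u < 1008, (fun u => chkSlp tab slp u) u = true := ext_range (a := 992) (len := 16) h62 sl_62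
  have h64 : ∀ u < 1024, (fun u => chkSlp tab slp u) u = true := ext_range (a := 1008) (len := 16) h63 sl_63
  have h65 : ∀ u < 1040, (fun u => chkSlp tab slp u) u = true := ext_range (a := 1024) (len := 16) h64 sl_64
  have h66 : ∀ u < 1056, (fun u => chkSlp tab slp u) u = true := ext_range (a := 1040) (len := 16) h65 sl_65
  have h67 : ∀ u < 1072, (fun u => chkSlp tab slp u) u = true := ext_range (a := 1056) (len := 16) h66 sl_66
  have h68 : ∀ u < 1088, (fun u => chkSlp tab slp u) u = true := ext_range (a := 1072) (len := 16) h67 sl_67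
  have h69 : ∀ u < 1104, (fun u => chkSlp tab slp u) u = true := ext_range (a := 1088) (len := 16) h68 sl_68
  have h70 : ∀ u < 1120, (fun u => chkSlp tab slp u) u = true := ext_range (a := 1104) (len := 16) h69 sl_69
  have h71 : ∀ u < 1136, (fun u => chkSlp tab slp u) u = true := ext_range (a := 1120) (len := 16) h70 sl_70
  have h72 : ∀ u < 1152, (fun u => chkSlp tab slp u) u = true := ext_range (a := 1136) (len := 16) h71 sl_71
  have h73 : ∀ u < 1168, (fun u => chkSlp tab slp u) u = true := ext_range (a := 1152) (len := 16) h72 sl_72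
  have h74 : ∀ u < 1184, (fun u => chkSlp tab slp u) u = true := ext_range (a := 1168) (len := 16) h73 sl_73
  have h75 : ∀ u < 1200, (fun u => chkSlp tab slp u) u = true := ext_range (a := 1184) (len := 16) h74 sl_74
  have h76 : ∀ u < 1216, (fun u => chkSlp tab slp u) u = true := ext_range (a := 1200) (len := 16) h75 sl_75
  have h77 : ∀ u < 1232, (fun u => chkSlp tab slp u) u = true := ext_range (a := 1216) (len := 16) h76 sl_76
  have h78 : ∀ u < 1248, (fun u => chkSlp tab slp u) u = true := ext_range (a := 1232) (len := 16) h77 sl_77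
  have h79 : ∀ u < 1264, (fun u => chkSlp tab slp u) u = true := ext_range (a := 1248) (len := 16) h78 sl_78
  have h80 : ∀ u < 1280, (fun u => chkSlp tab slp u) u = true := ext_range (a := 1264) (len := 16) h79 sl_79
  have h81 : ∀ u < 1296, (fun u => chkSlp tab slp u) u = true := ext_range (a := 1280) (len := 16) h80 sl_80
  have h82 : ∀ u < 1312, (fun u => chkSlp tab slp u) u = true := ext_range (a := 1296) (len := 16) h81 sl_81
  have h83 : ∀ u < 1328, (fun u => chkSlp tab slp u) u = true := ext_range (a := 1312) (len := 16) h82 sl_82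
  have h84 : ∀ u < 1344, (fun u => chkSlp tab slp u) u = true := ext_range (a := 1328) (len := 16) h83 sl_83
  have h85 : ∀ u < 1360, (fun u => chkSlp tab slp u) u = true := ext_range (a := 1344) (len := 16) h84 sl_84
  have h86 : ∀ u < 1376, (fun u => chkSlp tab slp u) u = true := ext_range (a := 1360) (len := 16) h85 sl_85
  have h87 : ∀ u < 1392, (fun u => chkSlp tab slp u) u = true := ext_range (a := 1376) (len := 16) h86 sl_86
  have h88 : ∀ u < 1408, (fun u => chkSlp tab slp u) u = true := ext_range (a := 1392) (len := 16) h87 sl_87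
  have h89 : ∀ u < 1424, (fun u => chkSlp tab slp u) u = true := ext_range (a := 1408) (len := 16) h88 sl_88
  have h90 : ∀ u < 1440, (fun u => chkSlp tab slp u) u = true := ext_range (a := 1424) (len := 16) h89 sl_89
  have h91 : ∀ u < 1456, (fun u => chkSlp tab slp u) u = true := ext_range (a := 1440) (len := 16) h90 sl_90
  have h92 : ∀ u < 1472, (fun u => chkSlp tab slp u) u = true := ext_range (a := 1456) (len := 16) h91 sl_91
  have h93 : ∀ u < 1488, (fun u => chkSlp tab slp u) u = true := ext_range (a := 1472) (len := 16) h92 sl_92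
  have h94 : ∀ u < 1504, (fun u => chkSlp tab slp u) u = true := ext_range (a := 1488) (len := 16) h93 sl_93
  have h95 : ∀ u < 1520, (fun u => chkSlp tab slp u) u = true := ext_range (a := 1504) (len := 16) h94 sl_94
  have h96 : ∀ u < 1536, (fun u => chkSlp tab slp u) u = true := ext_range (a := 1520) (len := 16) h95 sl_95
  have h97 : ∀ u < 1552, (fun u => chkSlp tab slp u) u = true := ext_range (a := 1536) (len := 16) h96 sl_96
  have h98 : ∀ u < 1568, (fun u => chkSlp tab slp u) u = true := ext_range (a := 1552) (len := 16) h97 sl_97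
  have h99 : ∀ u < 1584, (fun u => chkSlp tab slp u) u = true := ext_range (a := 1568) (len := 16) h98 sl_98
  have h100 : ∀ u < 1600, (fun u => chkSlp tab slp u) u = true := ext_range (a := 1584) (len := 16) h99 sl_99
  have h101 : ∀ u < 1616, (fun u => chkSlp tab slp u) u = true := ext_range (a := 1600) (len := 16) h100 sl_100
  have h102 : ∀ u < 1632, (fun u => chkSlp tab slp u) u = true := ext_range (a := 1616) (len := 16) h101 sl_101
  have h103 : ∀ u < 1648, (fun u => chkSlp tab slp u) u = true := ext_range (a := 1632) (len := 16) h102 sl_102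
  have h104 : ∀ u < 1664, (fun u => chkSlp tab slp u) u = true := ext_range (a := 1648) (len := 16) h103 sl_103
  have h105 : ∀ u < 1680, (fun u => chkSlp tab slp u) u = true := ext_range (a := 1664) (len := 16) h104 sl_104
  have h106 : ∀ u < 1696, (fun u => chkSlp tab slp u) u = true := ext_range (a := 1680) (len := 16) h105 sl_105
  have h107 : ∀ u < 1712, (fun u => chkSlp tab slp u) u = true := ext_range (a := 1696) (len := 16) h106 sl_106
  have h108 : ∀ u < 1728, (fun u => chkSlp tab slp u) u = true := ext_range (a := 1712) (len := 16) h107 sl_107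
  have h109 : ∀ u < 1744, (fun u => chkSlp tab slp u) u = true := ext_range (a := 1728) (len := 16) h108 sl_108
  have h110 : ∀ u < 1760, (fun u => chkSlp tab slp u) u = true := ext_range (a := 1744) (len := 16) h109 sl_109
  have h111 : ∀ u < 1776, (fun u => chkSlp tab slp u) u = true := ext_range (a := 1760) (len := 16) h110 sl_110
  have h112 : ∀ u < 1782, (fun u => chkSlp tab slp u) u = true := ext_range (a := 1776) (len := 6) h111 sl_111
  exact h112

theorem hT0 : ∀ u < 1782, chkTree tab (lidx 0) (lpar 0) (lgi 0) 0 [0, 1, 2, 3, 4, 5, 6, 148, 149, 141, 150] u = true := by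
  have h0 : ∀ u < 0, (fun u => chkTree tab (lidx 0) (lpar 0) (lgi 0) 0 [0, 1, 2, 3, 4, 5, 6, 148, 149, 141, 150] u) u = true := range_zero
  have h1 : ∀ u < 1000, (fun u => chkTree tab (lidx 0) (lpar 0) (lgi 0) 0 [0, 1, 2, 3, 4, 5, 6, 148, 149, 141, 150] u) u = true := ext_range (a := 0) (len := 1000) h0 t0__0
  have h2 : ∀ u < 1782, (fun u => chkTree tab (lidx 0) (lpar 0) (lgi 0) 0 [0, 1, 2, 3, 4, 5, 6, 148, 149, 141, 150] u) u = true := ext_range (a := 1000) (len := 782) h1 t0__1
  exact h2

theorem hT1 : ∀ u < 1782, chkTree tab (lidx 1) (lpar 1) (lgi 1) 1 [0, 1, 2, 3, 4, 5, 148, 149, 141, 150] u = true := by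
  have h0 : ∀ u < 0, (fun u => chkTree tab (lidx 1) (lpar 1) (lgi 1) 1 [0, 1, 2, 3, 4, 5, 148, 149, 141, 150] u) u = true := range_zero
  have h1 : ∀ u < 1000, (fun u => chkTree tab (lidx 1) (lpar 1) (lgi 1) 1 [0, 1, 2, 3, 4, 5, 148, 149, 141, 150] u) u = true := ext_range (a := 0) (len := 1000) h0 t1__0
  have h2 : ∀ u < 1782, (fun u => chkTree tab (lidx 1) (lpar 1) (lgi 1) 1 [0, 1, 2, 3, 4, 5, 148, 149, 141, 150] u) u = true := ext_range (a := 1000) (len := 782) h1 t1__1
  exact h2

theorem hT2 : ∀ u < 1782, chkTree tab (lidx 2) (lpar 2) (lgi 2) 2 [0, 2, 3, 4, 5, 148, 149, 141, 150] u = true := by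
  have h0 : ∀ u < 0, (fun u => chkTree tab (lidx 2) (lpar 2) (lgi 2) 2 [0, 2, 3, 4, 5, 148, 149, 141, 150] u) u = true := range_zero
  have h1 : ∀ u < 1000, (fun u => chkTree tab (lidx 2) (lpar 2) (lgi 2) 2 [0, 2, 3, 4, 5, 148, 149, 141, 150] u) u = true := ext_range (a := 0) (len := 1000) h0 t2__0
  have h2 : ∀ u < 1782, (fun u => chkTree tab (lidx 2) (lpar 2) (lgi 2) 2 [0, 2, 3, 4, 5, 148, 149, 141, 150] u) u = true := ext_range (a := 1000) (len := 782) h1 t2__1
  exact h2

theorem hT3 : ∀ u < 1782, chkTree tab (lidx 3) (lpar 3) (lgi 3) 4 [3, 4, 148, 149, 141, 150] u = true := by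
  have h0 : ∀ u < 0, (fun u => chkTree tab (lidx 3) (lpar 3) (lgi 3) 4 [3, 4, 148, 149, 141, 150] u) u = true := range_zero
  have h1 : ∀ u < 1000, (fun u => chkTree tab (lidx 3) (lpar 3) (lgi 3) 4 [3, 4, 148, 149, 141, 150] u) u = true := ext_range (a := 0) (len := 1000) h0 t3__0
  have h2 : ∀ u < 1782, (fun u => chkTree tab (lidx 3) (lpar 3) (lgi 3) 4 [3, 4, 148, 149, 141, 150] u) u = true := ext_range (a := 1000) (len := 782) h1 t3__1
  exact h2

theorem hT4 : ∀ u < 1782, chkTree tab (lidx 4) (lpar 4) (lgi 4) 8 [4, 148, 149] u = true := by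
  have h0 : ∀ u < 0, (fun u => chkTree tab (lidx 4) (lpar 4) (lgi 4) 8 [4, 148, 149] u) u = true := range_zero
  have h1 : ∀ u < 1000, (fun u => chkTree tab (lidx 4) (lpar 4) (lgi 4) 8 [4, 148, 149] u) u = true := ext_range (a := 0) (len := 1000) h0 t4__0
  have h2 : ∀ u < 1782, (fun u => chkTree tab (lidx 4) (lpar 4) (lgi 4) 8 [4, 148, 149] u) u = true := ext_range (a := 1000) (len := 782) h1 t4__1
  exact h2

theorem hT5 : ∀ u < 1782, chkTree tab (lidx 5) (lpar 5) (lgi 5) 14 [148, 149] u = true := by
  have h0 : ∀ u < 0, (fun u => chkTree tab (lidx 5) (lpar 5) (lgi 5) 14 [148, 149] u) u = true := range_zero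
  have h1 : ∀ u < 1000, (fun u => chkTree tab (lidx 5) (lpar 5) (lgi 5) 14 [148, 149] u) u = true := ext_range (a := 0) (len := 1000) h0 t5__0
  have h2 : ∀ u < 1782, (fun u => chkTree tab (lidx 5) (lpar 5) (lgi 5) 14 [148, 149] u) u = true := ext_range (a := 1000) (len := 782) h1 t5__1
  exact h2

theorem hX : ∀ u < 1782, Nat.beq ((runT tab xw)^[11] u) u = true := by
  have h0 : ∀ u < 0, (fun u => Nat.beq ((runT tab xw)^[11] u) u) u = true := range_zero
  have h1 : ∀ u < 166, (fun u => Nat.beq ((runT tab xw)^[11] u) u) u = true := ext_range (a := 0) (len := 166) h0 x_0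
  have h2 : ∀ u < 332, (fun u => Nat.beq ((runT tab xw)^[11] u) u) u = true := ext_range (a := 166) (len := 166) h1 x_1
  have h3 : ∀ u < 498, (fun u => Nat.beq ((runT tab xw)^[11] u) u) u = true := ext_range (a := 332) (len := 166) h2 x_2
  have h4 : ∀ u < 664, (fun u => Nat.beq ((runT tab xw)^[11] u) u) u = true := ext_range (a := 498) (len := 166) h3 x_3
  have h5 : ∀ u < 830, (fun u => Nat.beq ((runT tab xw)^[11] u) u) u = true := ext_range (a := 664) (len := 166) h4 x_4
  have h6 : ∀ u < 996, (fun u => Nat.beq ((runT tab xw)^[11] u) u) u = true := ext_range (a := 830) (len := 166) h5 x_5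
  have h7 : ∀ u < 1162, (fun u => Nat.beq ((runT tab xw)^[11] u) u) u = true := ext_range (a := 996) (len := 166) h6 x_6
  have h8 : ∀ u < 1328, (fun u => Nat.beq ((runT tab xw)^[11] u) u) u = true := ext_range (a := 1162) (len := 166) h7 x_7
  have h9 : ∀ u < 1494, (fun u => Nat.beq ((runT tab xw)^[11] u) u) u = true := ext_range (a := 1328) (len := 166) h8 x_8
  have h10 : ∀ u < 1660, (fun u => Nat.beq ((runT tab xw)^[11] u) u) u = true := ext_range (a := 1494) (len := 166) h9 x_9
  have h11 : ∀ u < 1782, (fun u => Nat.beq ((runT tab xw)^[11] u) u) u = true := ext_range (a := 1660) (len := 122) h10 x_10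
  exact h11

theorem hE : ∀ c < 7, ∀ u < 12362, chkE tab c u = true := by
  intro c hc
  interval_cases c
  · exact hE0
  · exact hE1
  · exact hE2
  · exact hE3
  · exact hE4
  · exact hE5
  · exact hE6

end Cfsg.Agent.Helper9.TCData.SuzC0
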