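import Cfsg.Agent.Lib.Helper9.TC2Cox
import Cfsg.Agent.Lib.Helper9.TC2Aux
import Cfsg.Agent.Lib.Helper9.TC2BSGS
import Cfsg.Agent.Lib.Helper9.TC2Pack
import Cfsg.Agent.Lib.Helper9.TCData.SuzC0.P0

set_option autoImplicit false
set_option maxRecDepth 100000

namespace Cfsg.Agent.Helper9.TCData.SuzC0
open Cfsg.Agent.Helper9.TC2
/-- The rotated relators. -/
noncomputable def rotT : WT := (WT.node 34 (WT.node 17 (WT.node 8 (WT.node 4 (WT.node 2 (WT.node 1 (WT.leaf [0, 6, 0, 6]) (WT.leaf [0, 2, 0, 2])) (WT.node 3 (WT.leaf [0, 5, 0, 5]) (WT.leaf [0, 3, 0, 3]))) (WT.node 6 (WT.node 5 (WT.leaf [0, 4, 0, 4]) (WT.leaf [0, 1, 2, 5, 0, 1, 2, 5, 0, 1, 2, 5, 0, 1, 2, 5, 0, 1, 2, 5])) (WT.node 7 (WT.leaf [0, 1, 0, 1, 0, 1, 0, 1, 0, 1]) (WT.leaf [0, 6, 5, 6, 5])))) (WT.node 12 (WT.node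 10 (WT.node 9 (WT.leaf [0, 3, 2, 3, 2, 3, 2, 3, 2]) (WT.leaf [1, 2, 1, 2, 1, 2])) (WT.node 11 (WT.leaf [1, 5, 1, 5, 1, 5]) (WT.leaf [1, 3, 1, 3]))) (WT.node 14 (WT.node 13 (WT.leaf [1, 4, 1, 4]) (WT.leaf [1, 6, 1, 6, 1, 6])) (WT.node 15 (WT.leaf [1, 0, 1, 0, 1, 0, 1, 0, 1, 0]) (WT.node 16 (WT.leaf [1, 5, 6, 1, 5, 6, 1, 5, 6, 1, 5, 6, 1, 5, 6]) (WT.leaf [1, 2, 5, 0, 1, 2, 5, 0, 1, 2, 5, 0, 1, 2, 5, 0, 1, 2, 5, 0])))))) (WT.node 25 (WT.node 21 (WT.node 19 (WT.node 18 (WT.leaf [2, 6, 2, 6]) (WT.leaf [2, 5, 2, 5])) (WT.node 20 (WT.leaf [2, 1, 2, 1, 2, 1]) (WT.leaf [2, 4, 2, 4]))) (WT.node 23 (WT.node 22 (WT.leaf [2, 0, 2, 0]) (WT.leaf [2, 3, 2, 3, 2, 3, 2, 0, 3])) (WT.node 24 (WT.leaf [2, 3, 2, 3, 2, 3, 2, 3, 2, 3, 2, 3, 2, 3, 2, 3]) (WT.leaf [2, 3, 2, 0, 3, 2, 3, 2, 3]))))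 (WT.node 29 (WT.node 27 (WT.node 26 (WT.leaf [2, 5, 0, 1, 2, 5, 0, 1, 2, 5, 0, 1, 2, 5, 0, 1, 2, 5, 0, 1]) (WT.leaf [2, 3, 1, 2, 3, 2, 3, 1, 2, 3, 2, 3, 4, 1, 2, 3, 2, 3, 1, 2, 3, 2, 3, 1, 2, 3, 2, 3, 1, 2, 3, 2, 3, 1, 2, 3, 2, 3, 4, 1, 2, 3, 2, 3, 1, 2, 3, 2, 3, 1, 2, 3, 2, 3, 1, 2, 3, 2, 3, 1, 2, 3, 2, 3, 4, 1, 2, 3, 2, 3, 1, 2, 3, 2, 3, 1, 2, 3])) (WT.node 28 (WT.leaf [2, 3, 2, 3, 1, 2, 3, 2, 3, 1, 2, 3, 2, 3, 1, 2, 3, 2, 3, 4, 1, 2, 3, 2, 3, 1, 2, 3, 2, 3, 1, 2, 3, 2, 3, 1, 2, 3, 2, 3, 1, 2, 3, 2, 3, 4, 1, 2, 3, 2, 3, 1, 2, 3, 2, 3, 1, 2, 3, 2, 3, 1, 2, 3, 2, 3, 1, 2, 3, 2, 3, 4, 1, 2, 3, 2, 3, 1]) (WT.leaf [3, 6, 3, 6]))) (WT.node 31 (WT.node 30 (WT.leaf [3, 1, 3, 1]) (WT.leaf [3, 0, 3, 0])) (WT.node 32 (WT.leaf [3, 5, 3, 5]) (WT.node 33 (WT.leaf [3, 2, 3, 2,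 3, 2, 0, 3, 2]) (WT.leaf [3, 4, 3, 4, 3, 4]))))))) (WT.node 51 (WT.node 42 (WT.node 38 (WT.node 36 (WT.node 35 (WT.leaf [3, 2, 3, 2, 3, 2, 3, 2, 3, 2, 3, 2, 3, 2, 3, 2]) (WT.leaf [3, 2, 0, 3, 2, 3, 2, 3, 2])) (WT.node 37 (WT.leaf [3, 2, 3, 2, 3, 2, 3, 2, 0]) (WT.leaf [3, 2, 3, 1, 2, 3, 2, 3, 1, 2, 3, 2, 3, 1, 2, 3, 2, 3, 1, 2, 3, 2, 3, 4, 1, 2, 3, 2, 3, 1, 2, 3, 2, 3, 1, 2, 3, 2, 3, 1, 2, 3, 2, 3, 1, 2, 3, 2, 3, 4, 1, 2, 3, 2, 3, 1, 2, 3, 2, 3, 1, 2, 3, 2, 3, 1, 2, 3, 2, 3, 1, 2, 3, 2, 3, 4, 1, 2]))) (WT.node 40 (WT.node 39 (WT.leaf [3, 1, 2, 3, 2, 3, 1, 2, 3, 2, 3, 1, 2, 3, 2, 3, 1, 2, 3, 2, 3, 4, 1, 2, 3, 2, 3, 1, 2, 3, 2, 3, 1, 2, 3, 2, 3, 1, 2, 3, 2, 3, 1, 2, 3, 2, 3, 4, 1, 2, 3, 2, 3, 1, 2, 3, 2, 3, 1, 2, 3, 2, 3, 1, 2, 3, 2, 3, 1, 2, 3, 2, 3, 4, 1, 2, 3, 2])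 (WT.leaf [4, 6, 4, 6])) (WT.node 41 (WT.leaf [4, 1, 4, 1]) (WT.leaf [4, 0, 4, 0])))) (WT.node 46 (WT.node 44 (WT.node 43 (WT.leaf [4, 2, 4, 2]) (WT.leaf [4, 5, 4, 5])) (WT.node 45 (WT.leaf [4, 3, 4, 3, 4, 3]) (WT.leaf [4, 1, 2, 3, 2, 3, 1, 2, 3, 2, 3, 1, 2, 3, 2, 3, 1, 2, 3, 2, 3, 1, 2, 3, 2, 3, 4, 1, 2, 3, 2, 3, 1, 2, 3, 2, 3, 1, 2, 3, 2, 3, 1, 2, 3, 2, 3, 1, 2, 3, 2, 3, 4, 1, 2, 3, 2, 3, 1, 2, 3, 2, 3, 1, 2, 3, 2, 3, 1, 2, 3, 2, 3, 1, 2, 3, 2, 3]))) (WT.node 48 (WT.node 47 (WT.leaf [5, 6, 5, 0, 6]) (WT.leaf [5, 2, 5, 2])) (WT.node 49 (WT.leaf [5, 3, 5, 3]) (WT.node 50 (WT.leaf [5, 1, 5, 1, 5, 1]) (WT.leaf [5, 4, 5, 4])))))) (WT.node 60 (WT.node 55 (WT.node 53 (WT.node 52 (WT.leaf [5, 0, 5, 0]) (WT.leaf [5, 6, 5, 6, 5, 6, 5, 6])) (WT.node 54 (WT.leaf [5, 0, 1, 2,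 5, 0, 1, 2, 5, 0, 1, 2, 5, 0, 1, 2, 5, 0, 1, 2]) (WT.leaf [5, 6, 1, 5, 6, 1, 5, 6, 1, 5, 6, 1, 5, 6, 1]))) (WT.node 57 (WT.node 56 (WT.leaf [5, 0, 6, 5, 6]) (WT.leaf [6, 1, 6, 1, 6, 1])) (WT.node 58 (WT.leaf [6, 0, 6, 0]) (WT.node 59 (WT.leaf [6, 2, 6, 2]) (WT.leaf [6, 5, 0, 6, 5]))))) (WT.node 64 (WT.node 62 (WT.node 61 (WT.leaf [6, 3, 6, 3]) (WT.leaf [6, 4, 6, 4])) (WT.node 63 (WT.leaf [6, 1, 5, 6, 1, 5, 6, 1, 5, 6, 1, 5, 6, 1, 5]) (WT.leaf [6, 5, 6, 5, 6, 5, 6, 5]))) (WT.node 66 (WT.node 65 (WT.leaf [6, 5, 6, 5, 0]) (WT.leaf [3, 2, 3, 1, 2, 3, 2, 3, 1, 2, 3, 2, 3, 4, 1, 2, 3, 2, 3, 1, 2, 3, 2, 3, 1, 2, 3, 2, 3, 1, 2, 3, 2, 3, 1, 2, 3, 2, 3, 4, 1, 2, 3, 2, 3, 1, 2, 3, 2, 3, 1, 2, 3, 2, 3, 1, 2, 3, 2, 3, 1, 2, 3, 2, 3, 4, 1, 2, 3, 2, 3, 1, 2, 3, 2, 3, 1, 2])) (WT.node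 67 (WT.leaf [2, 3, 2, 3, 2, 0, 3, 2, 3]) (WT.node 68 (WT.leaf [3, 2, 3, 1, 2, 3, 2, 3, 1, 2, 3, 2, 3, 1, 2, 3, 2, 3, 4, 1, 2, 3, 2, 3, 1, 2, 3, 2, 3, 1, 2, 3, 2, 3, 1, 2, 3, 2, 3, 1, 2, 3, 2, 3, 4, 1, 2, 3, 2, 3, 1, 2, 3, 2, 3, 1, 2, 3, 2, 3, 1, 2, 3, 2, 3, 1, 2, 3, 2, 3, 4, 1, 2, 3, 2, 3, 1, 2]) (WT.leaf [1, 2, 3, 2, 3, 1, 2, 3, 2, 3, 1, 2, 3, 2, 3, 1, 2, 3, 2, 3, 1, 2, 3, 2, 3, 4, 1, 2, 3, 2, 3, 1, 2, 3, 2, 3, 1, 2, 3, 2, 3, 1, 2, 3, 2, 3, 1, 2, 3, 2, 3, 4, 1, 2, 3, 2, 3, 1, 2, 3, 2, 3, 1, 2, 3, 2, 3, 1, 2, 3, 2, 3, 1, 2, 3, 2, 3, 4]))))))))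

/-- The sources of the rotated relators: relator and rotation. -/
def rotSrc : List (ℕ × ℕ) := [(6, 2), (2, 2), (5, 2), (3, 2), (4, 2), (51, 4), (1, 2), (50, 0), (49, 0), (9, 2), (12, 2), (10, 2), (11, 2), (13, 2), (1, 1), (52, 3), (51, 1), (20, 2), (19, 2), (9, 1), (18, 2), (2, 1), (49, 2), (17, 2), (49, 6), (51, 2), (53, 65), (53, 58), (27, 2), (10, 1), (3, 1), (26, 2), (49, 3), (25, 2), (17, 1), (49, 7), (49, 1), (53, 2), (53, 4), (34, 2), (11, 1), (4, 1), (18, 1), (33, 2), (25, 1), (53, 25), (50, 2), (19, 1), (26, 1), (12, 1), (33, 1), (5, 1), (41, 2), (51, 3), (52, 1), (50, 4), (13, 1), (6, 1), (20, 1), (50, 3), (27, 1), (34, 1), (52, 14), (41, 1), (50, 1), (53, 12), (49, 4), (53, 7), (53, 26)]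

/-- The relators, as words of columns. -/
def relWords : List (List ℕ) := [[0, 0], [0, 1, 0, 1, 0, 1, 0, 1, 0, 1], [0, 2, 0, 2], [0, 3, 0, 3], [0, 4, 0, 4], [0, 5, 0, 5], [0, 6, 0, 6], [1, 0, 1, 0, 1, 0, 1, 0, 1, 0], [1, 1], [1, 2, 1, 2, 1, 2], [1, 3, 1, 3], [1, 4, 1, 4], [1, 5, 1, 5, 1, 5], [1, 6, 1, 6, 1, 6], [2, 0, 2, 0], [2, 1, 2, 1, 2, 1], [2, 2], [2, 3, 2, 3, 2, 3, 2, 3, 2, 3, 2, 3, 2, 3, 2, 3], [2, 4, 2, 4], [2, 5, 2, 5], [2, 6, 2, 6], [3, 0, 3, 0], [3, 1, 3, 1], [3, 2, 3, 2, 3, 2, 3, 2, 3, 2, 3, 2, 3, 2, 3, 2], [3, 3], [3, 4, 3, 4, 3, 4], [3, 5, 3, 5], [3, 6, 3, 6], [4, 0, 4, 0], [4, 1, 4, 1], [4, 2, 4, 2], [4, 3, 4, 3, 4, 3], [4, 4], [4, 5, 4, 5], [4, 6, 4, 6], [5, 0, 5, 0], [5, 1, 5, 1, 5, 1], [5, 2, 5, 2], [5, 3, 5, 3], [5, 4, 5, 4], [5, 5], [5, 6, 5, 6,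 5, 6, 5, 6], [6, 0, 6, 0], [6, 1, 6, 1, 6, 1], [6, 2, 6, 2], [6, 3, 6, 3], [6, 4, 6, 4], [6, 5, 6, 5, 6, 5, 6, 5], [6, 6], [0, 3, 2, 3, 2, 3, 2, 3, 2], [0, 6, 5, 6, 5], [0, 1, 2, 5, 0, 1, 2, 5, 0, 1, 2, 5, 0, 1, 2, 5, 0, 1, 2, 5], [1, 5, 6, 1, 5, 6, 1, 5, 6, 1, 5, 6, 1, 5, 6], [1, 2, 3, 2, 3, 1, 2, 3, 2, 3, 1, 2, 3, 2, 3, 1, 2, 3, 2, 3, 1, 2, 3, 2, 3, 4, 1, 2, 3, 2, 3, 1, 2, 3, 2, 3, 1, 2, 3, 2, 3, 1, 2, 3, 2, 3, 1, 2, 3, 2, 3, 4, 1, 2, 3, 2, 3, 1, 2, 3, 2, 3, 1, 2, 3, 2, 3, 1, 2, 3, 2, 3, 1, 2, 3, 2, 3, 4]]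

/-- The words of the auxiliary columns. -/
def aux : List (List ℕ) := [[0, 1, 2, 5], [1, 2, 3, 2, 3, 1, 2, 3, 2, 3, 1, 2, 3, 2, 3, 1, 2, 3, 2, 3, 1, 2, 3, 2, 3, 4]]

/-- The words checked on the permutation model, with auxiliary columns. -/
def mwordsA : List (List ℕ) := [[0, 1, 0, 1, 0, 1, 0, 1, 0, 1], [0, 2, 0, 2], [0, 3, 0, 3], [0, 4, 0, 4], [0, 5, 0, 5], [0, 6, 0, 6], [1, 2, 1, 2, 1, 2], [1, 3, 1, 3], [1, 4, 1, 4], [1, 5, 1, 5, 1, 5], [1, 6, 1, 6, 1, 6], [2, 3, 2, 3, 2, 3, 2, 3, 2, 3, 2, 3, 2, 3, 2, 3], [2, 4, 2, 4], [2, 5, 2, 5], [2, 6, 2, 6], [3, 4, 3, 4, 3, 4], [3, 5, 3, 5], [3, 6, 3, 6], [4, 5, 4, 5], [4, 6, 4, 6], [5, 6, 5, 6, 5, 6, 5, 6], [0, 3, 2, 3, 2, 3, 2, 3, 2], [0, 6, 5, 6, 5], [7, 7, 7, 7, 7], [1, 5, 6, 1, 5, 6, 1, 5, 6, 1, 5, 6, 1, 5, 6], [8, 8,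 8]]

/-- The table. -/
noncomputable def tab : Tab where
  k := 7
  inv := fun c => c
  N := 12362
  n := 1782
  Tmax := 76020
  wn := 14
  mn := 0x3fff
  subs := [[0], [1], [2], [3], [4], [5]]
  rot := fun i => rotT.getF i
  ent := fun c i => bget2 entT_0 5 9 31 0x7fffffff 511 c i
  cer := fun c i => bget2 cerT_0 5 9 17 0x1ffff 511 c i
  tau := fun c i => bget2 tauT_0 2 10 11 0x7ff 1023 c i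
  lk := fun i => bget lkT_0 9 31 0x7fffffff 511 i
  lc := fun i => bget lcT_0 8 33 0x1ffffffff 255 i
  pn := fun i => bget pnT_0 9 17 0x1ffff 511 i
  cls := fun i => bget clsT_0 10 11 0x7ff 1023 i
  rep := fun i => bget repT_0 10 14 0x3fff 1023 i

/-- The straight line program of the further columns. -/
def slp : List (ℕ × List ℕ) := [(0, [0, 1, 2, 5]), (0, [1, 2, 3, 2, 3, 1, 2, 3, 2, 3, 1, 2, 3, 2, 3, 1, 2, 3, 2, 3, 1, 2, 3, 2, 3, 4]), (0, [2, 3]), (0, [0, 9]), (0, [5, 2]), (0, [10, 11]), (0, [1, 2]), (0, [12, 13]), (0, [4, 0]), (0, [14, 15]), (0, [15, 9]), (0, [16, 17]), (0, [1, 15]), (0, [18, 19]), (0, [17, 2]), (0, [20, 21]), (0, [6, 19]), (0, [22, 23]), (0, [21, 1]), (0, [24, 25]), (0, [13, 0]), (0, [26, 27]), (0, [0, 4]), (0, [28, 29]), (0, [6, 27]), (0, [30,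 31]), (0, [21, 11]), (0, [32, 33]), (0, [33, 15]), (0, [34, 35]), (0, [31, 4]), (0, [36, 37]), (0, [37, 27]), (0, [38, 39]), (0, [39, 27]), (0, [40, 41]), (0, [29, 11]), (0, [42, 43]), (0, [35, 41]), (0, [44, 45]), (0, [23, 43]), (0, [46, 47]), (0, [25, 45]), (0, [48, 49]), (0, [17, 49]), (0, [50, 51]), (0, [15, 25]), (0, [52, 53]), (0, [15, 53]), (0, [54, 55]), (0, [39, 53]), (0, [56, 57]), (0, [29, 4]), (0, [58, 59]), (0, [39, 57]), (0, [60, 61]), (0, [49, 59]), (0, [62, 63]), (0, [47, 63]), (0, [64, 65]), (0, [4, 23]), (0, [66, 67]), (0, [59, 67]), (0, [68, 69]), (0, [65, 57]), (0, [70, 71]), (0, [51, 61]), (0, [72, 73]), (0, [35, 67]), (0, [74, 75]), (0, [35, 47]), (0, [76, 77]), (0, [55, 61]), (0, [78, 79]), (0, [65, 79]), (0, [80, 81]), (0, [65, 71]), (0, [82,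 83]), (0, [23, 75]), (0, [84, 85]), (0, [73, 75]), (0, [86, 87]), (0, [75, 85]), (0, [88, 89]), (0, [69, 77]), (0, [90, 91]), (0, [65, 91]), (0, [92, 93]), (0, [93, 35]), (0, [94, 95]), (0, [91, 55]), (0, [96, 97]), (0, [95, 97]), (0, [98, 99]), (0, [69, 55]), (0, [100, 101]), (0, [69, 99]), (0, [102, 103]), (0, [89, 101]), (0, [104, 105]), (0, [99, 35]), (0, [106, 107]), (0, [107, 95]), (0, [108, 109]), (0, [83, 81]), (0, [110, 111]), (0, [95, 103]), (0, [112, 113]), (0, [89, 35]), (0, [114, 115]), (0, [89, 87]), (0, [116, 117]), (0, [111, 83]), (0, [118, 119]), (0, [109, 87]), (0, [120, 121]), (0, [115, 83]), (0, [122, 123]), (0, [87, 95]), (0, [124, 125]), (0, [125, 83]), (0, [126, 127]), (0, [121, 127]), (0, [128, 129]), (0, [6, 1, 0, 2, 3, 2, 1, 0, 4, 3, 2, 5,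 1, 6, 5, 130]), (1, [131]), (0, [123, 95]), (0, [130, 133]), (0, [132, 0, 4, 5, 1, 6, 132, 1, 4, 3, 131, 134]), (1, [135]), (0, [83, 121]), (0, [134, 137]), (0, [137, 133]), (0, [138, 139]), (0, [136, 0, 2, 135, 135, 1, 132, 2, 135, 2, 6, 1, 132, 5, 1, 2, 140]), (0, [0, 135, 3, 136, 4, 135, 1, 132, 1, 136, 132, 6, 1, 135, 131, 131, 138]), (1, [142]), (0, [85, 117]), (0, [140, 144]), (0, [144, 105]), (0, [145, 146]), (0, [141, 136, 3, 136, 143, 132, 4, 131, 6, 1, 5, 132, 6, 141, 147]), (1, [148]), (1, [141])]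

/-- The levels: base point, generating columns, size of the orbit. -/
def levs : List (ℕ × List ℕ × ℕ) := [(0, [0, 1, 2, 3, 4, 5, 6, 148, 149, 141, 150], 1782), (1, [0, 1, 2, 3, 4, 5, 148, 149, 141, 150], 1365), (2, [0, 2, 3, 4, 5, 148, 149, 141, 150], 1024), (4, [3, 4, 148, 149, 141, 150], 15), (8, [4, 148, 149], 4), (14, [148, 149], 3)]

/-- A record of the trees of the orbits. -/
noncomputable def lidx : ℕ → ℕ → ℕ := fun c i => bget2 lidxT_0 2 10 11 0x7ff 1023 c i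

/-- A record of the trees of the orbits. -/
noncomputable def lpar : ℕ → ℕ → ℕ := fun c i => bget2 lparT_0 2 10 11 0x7ff 1023 c i

/-- A record of the trees of the orbits. -/
noncomputable def lgi : ℕ → ℕ → ℕ := fun c i => bget2 lgiT_0 1 12 4 0xf 4095 c i

/-- The word of the element of prime power order. -/
def xw : List ℕ := [1, 2, 3, 4, 5, 6]


/-- The orbit certificate. -/
noncomputable def orb : OrbData where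
  lab := fun i => bget labT_0 13 2 0x3 8191 i
  dep := fun i => bget depT_0 11 5 0x1f 2047 i
  oj := fun i => bget ojT_0 12 3 0x7 4095 i
  root := fun i => bget rootT_0 11 6 0x3f 2047 i

end Cfsg.Agent.Helper9.TCData.SuzC0
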