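import Cfsg.Agent.Lib.Helper9.TCData.SuzC0.Main

set_option autoImplicit false
set_option maxRecDepth 1000000

namespace Cfsg.Agent.Helper9.TCData.SuzC0
open Cfsg.Agent.Helper9.TC2

theorem e0_0 : allRange 0 3122 (fun u => chkE tab 0 u) = true := by decide +kernel

theorem e0_1 : allRange 3122 2644 (fun u => chkE tab 0 u) = true := by decide +kernel

theorem e0_2 : allRange 5766 3181 (fun u => chkE tab 0 u) = true := by decide +kernel

theorem e0_3 : allRange 8947 3415 (fun u => chkE tab 0 u) = true := by decide +kernel

theorem e1_0 : allRange 0 3983 (fun u => chkE tab 1 u) = true := by decide +kernel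

theorem e1_1 : allRange 3983 3173 (fun u => chkE tab 1 u) = true := by decide +kernel

theorem e1_2 : allRange 7156 5206 (fun u => chkE tab 1 u) = true := by decide +kernel

theorem e2_0 : allRange 0 3345 (fun u => chkE tab 2 u) = true := by decide +kernel


end Cfsg.Agent.Helper9.TCData.SuzC0
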