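import Cfsg.Agent.Lib.Helper9.TCData.SuzC0.Main

set_option autoImplicit false
set_option maxRecDepth 1000000

namespace Cfsg.Agent.Helper9.TCData.SuzC0
open Cfsg.Agent.Helper9.TC2

theorem o1_0 : allRange 0 513 (fun u => chkO1 tab orb u) = true := by decide +kernel

theorem o1_1 : allRange 513 513 (fun u => chkO1 tab orb u) = true := by decide +kernel

theorem o1_2 : allRange 1026 513 (fun u => chkO1 tab orb u) = true := by decide +kernel

theorem o1_3 : allRange 1539 243 (fun u => chkO1 tab orb u) = true := by decide +kernel

theorem o2_0 : allRange 0 1334 (fun u => chkO2 tab orb u) = true := by decide +kernel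

theorem o2_1 : allRange 1334 448 (fun u => chkO2 tab orb u) = true := by decide +kernel


end Cfsg.Agent.Helper9.TCData.SuzC0
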